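import Mathlib
import Cfsg.Prelude.Def_Blocks
import Cfsg.Agent.Characters.Core
import Cfsg.Agent.Characters.Linear
import Cfsg.Agent.Characters.Clifford
import Cfsg.Agent.Blocks.Deflate
import Cfsg.Agent.Blocks.ReynoldsAux
import Cfsg.Agent.H693.RealC

/-!
# Characters of degree prime to `p`, and real elements in normal subgroups

* `ker_of_not_dvd` : an irreducible character of degree prime to `p` contains in its kernel every
  normal subgroup contained in the derived group of a Sylow `p`-subgroup.
* `exists_real_of_not_mem_centralizer` : a `2`-element acting nontrivially on a normal subgroup `M`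
  inverts a nontrivial element of `M`.
-/

set_option autoImplicit false

namespace Cfsg.Agent.H693.RealD

open Cfsg Cfsg.Agent.Characters.Core
open scoped ComplexConjugate commutatorElement

variable {G : Type*} [Group G]


theorem charDegree_of_natCast {χ : G → ℂ} {n : ℕ} (h : χ 1 = n) : charDegree χ = n := by
  unfold charDegree
  rw [h]
  simp

theorem charDegree_eq {χ : G → ℂ} (hχ : IsCharacter G χ) : χ 1 = (charDegree χ : ℂ) := by
  obtain ⟨n, hn⟩ := isCharacter_apply_one hχ
  rw [charDegree_of_natCast hn, hn]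

/-- An irreducible character of degree prime to `p` contains in its kernel every normal subgroup
contained in the derived group of a Sylow `p`-subgroup. -/
theorem ker_of_not_dvd [Finite G] {p : ℕ} [Fact p.Prime] {χ : G → ℂ} (hχ : IsIrrCharacter G χ)
    (hd : ¬ p ∣ charDegree χ) (P : Sylow p G) (M : Subgroup G) [M.Normal]
    (hMP : M ≤ ⁅(P : Subgroup G), (P : Subgroup G)⁆) : ∀ n ∈ M, χ n = χ 1 := by
  classical
  have := Fintype.ofFinite G
  have := Fintype.ofFinite M
  have hMP' : M ≤ (P : Subgroup G) := hMP.trans (Subgroup.commutator_le_self _)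
  have := Fintype.ofFinite (commutator (P : Subgroup G))
  -- the restriction to `P`
  have hres : IsCharacter (P : Subgroup G) (fun x : (P : Subgroup G) => χ x) :=
    isCharacter_comp (P : Subgroup G).subtype (isIrr_isCharacter hχ)
  have hsum : ∑ x : commutator (P : Subgroup G), χ ((x : (P : Subgroup G)) : G) ≠ 0 := by
    intro h0
    obtain ⟨n, hn⟩ := Cfsg.Agent.Blocks.ReynoldsAux.exists_dvd_degree P.isPGroup' hres h0
    apply hd
    have h1 : χ 1 = ((p * n : ℕ) : ℂ) := hn
    rw [charDegree_of_natCast h1]
    exact ⟨n, rfl⟩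
  -- the character does not have zero sum over `M`
  have hsumM : ∑ n : M, χ n ≠ 0 := by
    intro h0
    apply hsum
    -- averaging over `M`
    have hM : ∀ x ∈ (P : Subgroup G), ∑ n : M, χ (x * n) = 0 := by
      intro x hx
      -- the projection onto the `M`-invariants vanishes
      obtain ⟨k, ρ, hρ, rfl⟩ := hχ
      set Q : Module.End ℂ (Fin k → ℂ) := ∑ m : M, ρ m with hQ
      have hQcomm : ∀ g, Q * ρ g = ρ g * Q := by
        intro g
        rw [hQ, Finset.sum_mul, Finset.mul_sum]
        refine Fintype.sum_equiv (MulAut.conjNormal g⁻¹ : MulAut M).toEquiv _ _ fun m => ?_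
        rw [← map_mul, ← map_mul]
        congr 1
        simp only [MulEquiv.toEquiv_eq_coe, EquivLike.coe_coe, MulAut.conjNormal_apply]
        group
      obtain ⟨c, hc⟩ := Cfsg.Agent.Characters.Central.exists_smul_of_comm ρ hρ Q hQcomm
      have htr : LinearMap.trace ℂ _ Q = ∑ m : M, ρ.character m := by
        rw [hQ, map_sum]
        rfl
      have hc0 : c = 0 := by
        rw [h0, hc] at htr
        have hk : LinearMap.trace ℂ _ (1 : Module.End ℂ (Fin k → ℂ)) ≠ 0 := by
          have h1 := isIrr_apply_one_ne_zero (χ := ρ.character) ⟨k, ρ, hρ, rfl⟩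
          rw [Representation.char_one] at h1
          rw [LinearMap.trace_one]
          exact h1
        rw [map_smul, smul_eq_mul] at htr
        exact (mul_eq_zero.1 htr).resolve_right hk
      have : ∑ n : M, ρ.character (x * n) = LinearMap.trace ℂ _ (ρ x * Q) := by
        rw [hQ, Finset.mul_sum, map_sum]
        refine Finset.sum_congr rfl fun n _ => ?_
        rw [← map_mul]
        rfl
      rw [this, hc, hc0]
      simp
    -- sum over cosets of `M` in the derived group
    have hle : ∀ n : M, ∃ y : commutator (P : Subgroup G), ((y : (P : Subgroup G)) : G) = n := by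
      intro n
      have h1 : (n : G) ∈ ⁅(P : Subgroup G), (P : Subgroup G)⁆ := hMP n.2
      have h2 : (commutator (P : Subgroup G)).map (P : Subgroup G).subtype =
          ⁅(P : Subgroup G), (P : Subgroup G)⁆ := by
        rw [commutator_def, Subgroup.map_commutator, ← MonoidHom.range_eq_map,
          Subgroup.range_subtype]
      rw [← h2] at h1
      obtain ⟨y, hy, hy'⟩ := h1
      exact ⟨⟨y, hy⟩, hy'⟩
    choose e he using hle
    have key : (Fintype.card M : ℂ) * ∑ x : commutator (P : Subgroup G),
        χ ((x : (P : Subgroup G)) : G) = 0 := by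
      have h1 : ∀ n : M, ∑ x : commutator (P : Subgroup G), χ ((x : (P : Subgroup G)) : G) =
          ∑ x : commutator (P : Subgroup G), χ (((x : (P : Subgroup G)) : G) * n) := by
        intro n
        refine (Fintype.sum_equiv (Equiv.mulRight (e n)) _ _ fun x => ?_).symm
        simp only [Equiv.coe_mulRight, Subgroup.coe_mul, he]
      calc (Fintype.card M : ℂ) * ∑ x : commutator (P : Subgroup G),
            χ ((x : (P : Subgroup G)) : G)
          = ∑ n : M, ∑ x : commutator (P : Subgroup G), χ ((x : (P : Subgroup G)) : G) := by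
            rw [Finset.sum_const, Finset.card_univ, nsmul_eq_mul]
        _ = ∑ n : M, ∑ x : commutator (P : Subgroup G), χ (((x : (P : Subgroup G)) : G) * n) :=
            Finset.sum_congr rfl fun n _ => h1 n
        _ = 0 := by
            rw [Finset.sum_comm]
            exact Finset.sum_eq_zero fun x _ => hM _ (x : (P : Subgroup G)).2
    have hM0 : (Fintype.card M : ℂ) ≠ 0 := by exact_mod_cast Fintype.card_pos.ne'
    exact (mul_eq_zero.1 key).resolve_left hM0
  obtain ⟨χ', hχ'⟩ := Cfsg.Agent.Blocks.Deflate.exists_deflation M χ hχ hsumM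
  intro n hn
  rw [hχ']
  simp only [Function.comp]
  rw [(QuotientGroup.eq_one_iff n).2 hn, QuotientGroup.mk_one]

/-- A `2`-element acting nontrivially on a normal subgroup inverts one of its nontrivial
elements. -/
theorem exists_inverted {M : Subgroup G} [hM : M.Normal] {g : G} {k : ℕ} (hg : g ^ 2 ^ k = 1)
    (hn : g ∉ Subgroup.centralizer (M : Set G)) :
    ∃ m ∈ M, m ≠ 1 ∧ ∃ a : G, a * m * a⁻¹ = m⁻¹ ∧ a ∈ Subgroup.zpowers g := by
  classical
  -- the least `j` such that `g ^ 2 ^ j` centralizes `M`
  have hex : ∃ j : ℕ, g ^ 2 ^ j ∈ Subgroup.centralizer (M : Set G) := ⟨k, by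
    rw [hg]; exact Subgroup.one_mem _⟩
  set j := Nat.find hex with hj
  have hj1 := Nat.find_spec hex
  have hj0 : j ≠ 0 := by
    intro h0
    rw [← hj, h0] at hj1
    simp only [pow_zero, pow_one] at hj1
    exact hn hj1
  obtain ⟨i, hi⟩ := Nat.exists_eq_succ_of_ne_zero hj0
  have hmin : g ^ 2 ^ i ∉ Subgroup.centralizer (M : Set G) := by
    apply Nat.find_min hex
    rw [← hj, hi]
    exact Nat.lt_succ_self i
  set a := g ^ 2 ^ i with ha
  have ha2 : a ^ 2 ∈ Subgroup.centralizer (M : Set G) := by
    rw [ha, ← pow_mul, ← pow_succ]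
    rw [← hj, hi] at hj1
    exact hj1
  have hx : ∃ n ∈ M, a * n * a⁻¹ ≠ n := by
    by_contra hcon
    push Not at hcon
    apply hmin
    rw [Subgroup.mem_centralizer_iff]
    intro n hn
    have h1 := hcon n hn
    calc n * a = (a * n * a⁻¹) * a := by rw [h1]
      _ = a * n := by group
  obtain ⟨n, hn, hne⟩ := hx
  refine ⟨n⁻¹ * (a * n * a⁻¹), M.mul_mem (M.inv_mem hn) (hM.conj_mem n hn a), ?_, a, ?_, ?_⟩
  · intro h
    apply hne
    exact (inv_mul_eq_one.1 h).symm
  · rw [Subgroup.mem_centralizer_iff] at ha2
    have h2 := ha2 n hn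
    have h3 : a * (n⁻¹ * (a * n * a⁻¹)) * a⁻¹ = (a * n⁻¹ * a⁻¹) * (a ^ 2 * n * (a ^ 2)⁻¹) := by
      rw [pow_two]; group
    have h4 : a ^ 2 * n * (a ^ 2)⁻¹ = n := by rw [← h2]; group
    rw [h3, h4]
    group
  · exact Subgroup.pow_mem _ (Subgroup.mem_zpowers g) _

end Cfsg.Agent.H693.RealD
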