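import Mathlib
import Cfsg.Prelude.Def_Blocks
import Cfsg.Agent.Characters.Core
import Cfsg.Agent.Blocks.Deflate
import Cfsg.Agent.S4444
import Cfsg.Agent.H693.RealD

/-!
# The Glauberman correspondence for a `p`-group, in terms of homomorphisms

`f : A →* Γ`, `g : B →* A`, the image of `f ∘ g` being the set of fixed points of the `p`-group `S`
on the `p'`-group `f(A)`.
-/

set_option autoImplicit false
set_option linter.unusedSectionVars false

namespace Cfsg.Agent.H693.Defl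

open Cfsg Cfsg.Agent.Characters.Core Cfsg.Agent.H693.RealD
open scoped ComplexConjugate

/-- Inner products along a surjective homomorphism. -/
theorem classInner_comp_surj {M N : Type*} [Group M] [Fintype M] [Group N] [Fintype N]
    (p : M →* N) (hp : Function.Surjective p) (f g : N → ℂ) :
    classInner (fun x => f (p x)) (fun x => g (p x)) = classInner f g := by
  classical
  rw [classInner_def, classInner_def]
  have hfib : ∀ y : N, (Finset.univ.filter (fun x : M => p x = y)).card = Nat.card p.ker := by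
    intro y
    obtain ⟨x₀, rfl⟩ := hp y
    rw [← Fintype.card_subtype, ← Nat.card_eq_fintype_card]
    refine Nat.card_congr ⟨fun x => ⟨x₀⁻¹ * x, ?_⟩, fun k => ⟨x₀ * k, ?_⟩, ?_, ?_⟩
    · rw [MonoidHom.mem_ker, map_mul, map_inv, x.2, inv_mul_cancel]
    · rw [map_mul, MonoidHom.mem_ker.1 k.2, mul_one]
    · intro x
      exact Subtype.ext (mul_inv_cancel_left _ _)
    · intro k
      exact Subtype.ext (inv_mul_cancel_left _ _)
  have h1 : ∑ x : M, f (p x) * conj (g (p x)) =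
      Nat.card p.ker * ∑ y : N, f y * conj (g y) := by
    rw [← Finset.sum_fiberwise Finset.univ p, Finset.mul_sum]
    refine Finset.sum_congr rfl fun y _ => ?_
    rw [Finset.sum_congr rfl (g := fun _ => f y * conj (g y)) (fun x hx => by
      rw [(Finset.mem_filter.1 hx).2]), Finset.sum_const, hfib, nsmul_eq_mul]
  rw [h1]
  have h2 : (Nat.card M : ℂ) = Nat.card p.ker * Nat.card N := by
    have h3 := p.ker.card_mul_index
    rw [Subgroup.index_ker, MonoidHom.range_eq_top.2 hp, Subgroup.card_top] at h3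
    exact_mod_cast h3.symm
  have h4 : (Nat.card p.ker : ℂ) ≠ 0 := card_ne_zero_complex
  have h5 : (Nat.card N : ℂ) ≠ 0 := card_ne_zero_complex
  rw [h2]
  field_simp

/-- Deflation along a surjective homomorphism. -/
theorem exists_defl {A B : Type*} [Group A] [Group B] [Finite A] (π : A →* B)
    (hπ : Function.Surjective π) {χ : A → ℂ} (hχ : IsIrrCharacter A χ)
    (hker : ∀ a, π a = 1 → χ a = χ 1) :
    ∃ χ' : B → ℂ, IsIrrCharacter B χ' ∧ ∀ a, χ a = χ' (π a) := by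
  classical
  have := Fintype.ofFinite π.ker
  have hs : ∑ n : π.ker, χ n = ∑ _n : π.ker, χ 1 :=
    Finset.sum_congr rfl fun n _ => hker n n.2
  obtain ⟨χ₀, hχ₀⟩ := Cfsg.Agent.Blocks.Deflate.exists_deflation π.ker χ hχ (by
    rw [hs, Finset.sum_const, nsmul_eq_mul]
    refine mul_ne_zero ?_ (isIrr_apply_one_ne_zero hχ)
    rw [Finset.card_univ]
    exact_mod_cast Fintype.card_ne_zero)
  let e : A ⧸ π.ker ≃* B := QuotientGroup.quotientKerEquivOfSurjective π hπ
  refine ⟨(χ₀ : A ⧸ π.ker → ℂ) ∘ e.symm, isIrr_comp e.symm.toMonoidHom e.symm.surjective χ₀.2,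
    fun a => ?_⟩
  have h1 : e.symm (π a) = (a : A ⧸ π.ker) := by
    rw [MulEquiv.symm_apply_eq]
    rfl
  rw [Function.comp_apply, h1, hχ₀]
  rfl

/-- Invariance under conjugation by `S` in `Γ`. -/
def HInv {Γ A : Type*} [Group Γ] [Group A] (S : Subgroup Γ) (f : A →* Γ) (χ : A → ℂ) : Prop :=
  ∀ s ∈ S, ∀ a a' : A, f a' = s * f a * s⁻¹ → χ a' = χ a

/-- The relation of the Glauberman correspondence. -/
def Rel {A B : Type*} [Group B] [Fintype B] (p : ℕ) (g : B → A) (χ : A → ℂ) (β : B → ℂ) : Prop :=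
  ∃ m : ℕ, classInner (fun b => χ (g b)) β = m ∧ ¬ p ∣ m

/-- Congruence up to sign modulo `p` of the degrees. -/
def DegCong {A B : Type*} [Group A] [Group B] (p : ℕ) (χ : A → ℂ) (β : B → ℂ) : Prop :=
  ((charDegree β : ℕ) : ZMod p) = (charDegree χ : ZMod p) ∨
    ((charDegree β : ℕ) : ZMod p) = -(charDegree χ : ZMod p)

section deg

variable {C : Type*} [Group C] [Fintype C] {p : ℕ} [hp : Fact p.Prime]

/-- Degrees modulo `p`, when exactly one multiplicity is prime to `p`. -/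
theorem degree_cong {φ : C → ℂ} (hφ : IsCharacter C φ) {β : C → ℂ} (hβ : IsIrrCharacter C β)
    {m : ℕ} (hm : classInner φ β = m) (hm1 : (m : ℤ) ≡ 1 [ZMOD p] ∨ (m : ℤ) ≡ -1 [ZMOD p])
    (hun : ∀ γ : C → ℂ, IsIrrCharacter C γ → ∀ k : ℕ, classInner φ γ = k → ¬ p ∣ k → γ = β) :
    DegCong p φ β := by
  classical
  have hfin := finite_irr (G := C)
  have := Fintype.ofFinite (IrrCharacter C)
  obtain ⟨c, hc⟩ := isCharacter_iff.1 hφ
  have hci : ∀ γ : IrrCharacter C, classInner φ (γ : C → ℂ) = c γ := by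
    intro γ
    conv_lhs => rw [hc]
    exact classInner_sum_nsmul_irr c γ
  have hcβ : c ⟨β, hβ⟩ = m := by
    have := hci ⟨β, hβ⟩
    rw [hm] at this
    exact_mod_cast this.symm
  have hdeg : charDegree φ = ∑ γ : IrrCharacter C, c γ * charDegree (γ : C → ℂ) := by
    apply charDegree_of_natCast
    conv_lhs => rw [hc]
    rw [Finset.sum_apply]
    push_cast
    refine Finset.sum_congr rfl fun γ _ => ?_
    rw [Pi.smul_apply, nsmul_eq_mul, charDegree_eq (isIrr_isCharacter γ.2)]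
  have h1 : (charDegree φ : ZMod p) = (m : ZMod p) * charDegree β := by
    rw [hdeg]
    push_cast
    rw [Finset.sum_eq_single (⟨β, hβ⟩ : IrrCharacter C), hcβ]
    · intro γ _ hγ
      have h2 : ((c γ : ℕ) : ZMod p) = 0 := by
        rw [ZMod.natCast_eq_zero_iff]
        by_contra h3
        exact hγ (Subtype.ext (hun γ γ.2 (c γ) (hci γ) h3))
      rw [h2, zero_mul]
    · intro h
      exact absurd (Finset.mem_univ _) h
  unfold DegCong
  rcases hm1 with h2 | h2
  · left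
    have h3 : ((m : ℕ) : ZMod p) = 1 := by
      have := (ZMod.intCast_eq_intCast_iff _ _ p).2 h2
      simpa using this
    rw [h1, h3, one_mul]
  · right
    have h3 : ((m : ℕ) : ZMod p) = -1 := by
      have := (ZMod.intCast_eq_intCast_iff _ _ p).2 h2
      simpa using this
    rw [h1, h3, neg_mul, one_mul, neg_neg]

end deg

section glaub

variable {Γ : Type*} [Group Γ] [Finite Γ] {p : ℕ} [hp : Fact p.Prime] {S : Subgroup Γ}
  {A : Type*} [Group A] [Fintype A] {B : Type*} [Group B] [Fintype B]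
  {f : A →* Γ} {g : B →* A}

omit [Finite Γ] [Fintype A] in
theorem HInv.ker {χ : A → ℂ} (h : HInv S f χ) {a : A} (ha : f a = 1) : χ a = χ 1 :=
  h 1 S.one_mem 1 a (by rw [ha, map_one]; group)

/-- The data of the Glauberman correspondence. -/
structure Dat (p : ℕ) (S : Subgroup Γ) (f : A →* Γ) (g : B →* A) : Prop where
  pgroup : IsPGroup p S
  norm : ∀ s ∈ S, ∀ a, ∃ a', f a' = s * f a * s⁻¹
  ndvd : ¬ p ∣ Nat.card f.range
  fix : ∀ a, (∀ s ∈ S, s * f a * s⁻¹ = f a) ↔ ∃ b, f (g b) = f a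

variable (h : Dat p S f g)

include h

/-- The projection onto the fixed points. -/
theorem Dat.mem (b : B) : f (g b) ∈ f.range ⊓ Subgroup.centralizer (S : Set Γ) := by
  refine ⟨⟨g b, rfl⟩, Subgroup.mem_centralizer_iff.2 fun s hs => ?_⟩
  have h1 := (h.fix (g b)).2 ⟨b, rfl⟩ s hs
  exact mul_inv_eq_iff_eq_mul.1 h1

/-- The projection onto the fixed points. -/
def Dat.pr : B →* (f.range ⊓ Subgroup.centralizer (S : Set Γ) : Subgroup Γ) :=
  (f.comp g).codRestrict _ h.mem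

theorem Dat.pr_surj : Function.Surjective h.pr := by
  rintro ⟨x, ⟨⟨a, rfl⟩, hx⟩⟩
  obtain ⟨b, hb⟩ := (h.fix a).1 fun s hs => by
    rw [Subgroup.mem_centralizer_iff.1 hx s hs, mul_inv_cancel_right]
  exact ⟨b, Subtype.ext hb⟩

theorem Dat.inner (χ : f.range → ℂ) [Fintype (f.range ⊓ Subgroup.centralizer (S : Set Γ) : Subgroup Γ)]
    (β : (f.range ⊓ Subgroup.centralizer (S : Set Γ) : Subgroup Γ) → ℂ) :
    classInner (fun b => χ (f.rangeRestrict (g b))) (fun b => β (h.pr b)) =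
      classInner (fun c : (f.range ⊓ Subgroup.centralizer (S : Set Γ) : Subgroup Γ) =>
        χ ⟨c, c.2.1⟩) β := by
  rw [← classInner_comp_surj h.pr h.pr_surj]
  rfl

omit h in
/-- Invariance descends to the range. -/
theorem HInv.range {χ : f.range → ℂ} (hinv : HInv S f (fun a => χ (f.rangeRestrict a))) :
    ∀ s ∈ S, ∀ x x' : f.range, (x' : Γ) = s * x * s⁻¹ → χ x' = χ x := by
  rintro s hs ⟨_, ⟨a, rfl⟩⟩ ⟨_, ⟨a', rfl⟩⟩ hxx
  exact hinv s hs a a' hxx

/-- **Existence.** -/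
theorem Dat.exists_beta {χ : A → ℂ} (hχ : IsIrrCharacter A χ) (hinv : HInv S f χ) :
    ∃ β : B → ℂ, IsIrrCharacter B β ∧ (∀ b, f (g b) = 1 → β b = β 1) ∧ Rel p g χ β := by
  classical
  have := Fintype.ofFinite Γ
  have := Fintype.ofFinite f.range
  have := Fintype.ofFinite (f.range ⊓ Subgroup.centralizer (S : Set Γ) : Subgroup Γ)
  obtain ⟨χ', hχ', he⟩ := exists_defl f.rangeRestrict f.rangeRestrict_surjective hχ
    (fun a ha => hinv.ker (congrArg Subtype.val ha))
  have he' : χ = fun a => χ' (f.rangeRestrict a) := funext he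
  subst he'
  have hcop : (Nat.card f.range).Coprime (Nat.card S) := by
    obtain ⟨k, hk⟩ := IsPGroup.iff_card.1 h.pgroup
    rw [hk]
    exact Nat.Coprime.pow_right k ((Nat.Prime.coprime_iff_not_dvd hp.out).2 h.ndvd).symm
  obtain ⟨h1, h2, h3, h4⟩ := Cfsg.Agent.S4444.result f.range S (by
    rintro s hs _ ⟨a, rfl⟩
    obtain ⟨a', ha'⟩ := h.norm s hs a
    exact ⟨a', ha'⟩) hcop p hp.out h.pgroup
    (f.range ⊓ Subgroup.centralizer (S : Set Γ)) rfl inf_le_left
  obtain ⟨β, ⟨m, hm, hpm⟩, -⟩ := h1 ⟨χ', hχ'⟩ (HInv.range hinv)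
  refine ⟨fun b => (β : _ → ℂ) (h.pr b), isIrr_comp h.pr h.pr_surj β.2, ?_, m, ?_, hpm⟩
  · intro b hb
    have : h.pr b = 1 := Subtype.ext hb
    simp only [this, map_one]
  · rw [← hm, ← h.inner]

/-- **Degrees.** -/
theorem Dat.deg {χ : A → ℂ} (hχ : IsIrrCharacter A χ) (hinv : HInv S f χ)
    {β : B → ℂ} (hβ : IsIrrCharacter B β) (hker : ∀ b, f (g b) = 1 → β b = β 1)
    (hrel : Rel p g χ β) : DegCong p χ β := by
  classical
  have := Fintype.ofFinite Γ
  have := Fintype.ofFinite f.range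
  have := Fintype.ofFinite (f.range ⊓ Subgroup.centralizer (S : Set Γ) : Subgroup Γ)
  obtain ⟨χ', hχ', he⟩ := exists_defl f.rangeRestrict f.rangeRestrict_surjective hχ
    (fun a ha => hinv.ker (congrArg Subtype.val ha))
  have he' : χ = fun a => χ' (f.rangeRestrict a) := funext he
  subst he'
  obtain ⟨β', hβ', hb⟩ := exists_defl h.pr h.pr_surj hβ
    (fun b hb => hker b (congrArg Subtype.val hb))
  have hb' : β = fun b => β' (h.pr b) := funext hb
  subst hb'
  have hcop : (Nat.card f.range).Coprime (Nat.card S) := by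
    obtain ⟨k, hk⟩ := IsPGroup.iff_card.1 h.pgroup
    rw [hk]
    exact Nat.Coprime.pow_right k ((Nat.Prime.coprime_iff_not_dvd hp.out).2 h.ndvd).symm
  obtain ⟨h1, h2, h3, h4⟩ := Cfsg.Agent.S4444.result f.range S (by
    rintro s hs _ ⟨a, rfl⟩
    obtain ⟨a', ha'⟩ := h.norm s hs a
    exact ⟨a', ha'⟩) hcop p hp.out h.pgroup
    (f.range ⊓ Subgroup.centralizer (S : Set Γ)) rfl inf_le_left
  obtain ⟨m, hm, hpm⟩ := hrel
  have hm' := (h.inner χ' β').symm.trans hm
  have hsign := h2 ⟨χ', hχ'⟩ (HInv.range hinv) ⟨β', hβ'⟩ m hm' hpm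
  have hd := degree_cong (p := p) (φ := fun c :
      (f.range ⊓ Subgroup.centralizer (S : Set Γ) : Subgroup Γ) => χ' ⟨c, c.2.1⟩)
      (isCharacter_comp (Subgroup.inclusion inf_le_left) (isIrr_isCharacter hχ')) hβ' hm' hsign
      (fun γ hγ k hk hpk => by
        obtain ⟨β₀, -, hu⟩ := h1 ⟨χ', hχ'⟩ (HInv.range hinv)
        have e1 := hu ⟨γ, hγ⟩ ⟨k, hk, hpk⟩
        have e2 := hu ⟨β', hβ'⟩ ⟨m, hm', hpm⟩
        exact congrArg Subtype.val (e1.trans e2.symm))
  have d1 : charDegree (fun a => χ' (f.rangeRestrict a)) = charDegree (fun c :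
      (f.range ⊓ Subgroup.centralizer (S : Set Γ) : Subgroup Γ) => χ' ⟨c, c.2.1⟩) := by
    unfold charDegree
    simp only [map_one]
    rfl
  have d2 : charDegree (fun b => β' (h.pr b)) = charDegree β' := by
    unfold charDegree
    simp only [map_one]
  unfold DegCong at hd ⊢
  rw [d1, d2]
  exact hd

/-- **Uniqueness.** -/
theorem Dat.unique_beta {χ : A → ℂ} (hχ : IsIrrCharacter A χ) (hinv : HInv S f χ)
    {β β₁ : B → ℂ} (hβ : IsIrrCharacter B β) (hker : ∀ b, f (g b) = 1 → β b = β 1)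
    (hβ₁ : IsIrrCharacter B β₁) (hker₁ : ∀ b, f (g b) = 1 → β₁ b = β₁ 1)
    (hrel : Rel p g χ β) (hrel₁ : Rel p g χ β₁) : β = β₁ := by
  classical
  have := Fintype.ofFinite Γ
  have := Fintype.ofFinite f.range
  have := Fintype.ofFinite (f.range ⊓ Subgroup.centralizer (S : Set Γ) : Subgroup Γ)
  obtain ⟨χ', hχ', he⟩ := exists_defl f.rangeRestrict f.rangeRestrict_surjective hχ
    (fun a ha => hinv.ker (congrArg Subtype.val ha))
  have he' : χ = fun a => χ' (f.rangeRestrict a) := funext he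
  subst he'
  obtain ⟨β', hβ', hb⟩ := exists_defl h.pr h.pr_surj hβ
    (fun b hb => hker b (congrArg Subtype.val hb))
  have hb' : β = fun b => β' (h.pr b) := funext hb
  subst hb'
  obtain ⟨β₁', hβ₁', hb₁⟩ := exists_defl h.pr h.pr_surj hβ₁
    (fun b hb => hker₁ b (congrArg Subtype.val hb))
  have hb₁' : β₁ = fun b => β₁' (h.pr b) := funext hb₁
  subst hb₁'
  have hcop : (Nat.card f.range).Coprime (Nat.card S) := by
    obtain ⟨k, hk⟩ := IsPGroup.iff_card.1 h.pgroup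
    rw [hk]
    exact Nat.Coprime.pow_right k ((Nat.Prime.coprime_iff_not_dvd hp.out).2 h.ndvd).symm
  obtain ⟨h1, h2, h3, h4⟩ := Cfsg.Agent.S4444.result f.range S (by
    rintro s hs _ ⟨a, rfl⟩
    obtain ⟨a', ha'⟩ := h.norm s hs a
    exact ⟨a', ha'⟩) hcop p hp.out h.pgroup
    (f.range ⊓ Subgroup.centralizer (S : Set Γ)) rfl inf_le_left
  obtain ⟨m, hm, hpm⟩ := hrel
  obtain ⟨m₁, hm₁, hpm₁⟩ := hrel₁
  obtain ⟨β₀, -, hu⟩ := h1 ⟨χ', hχ'⟩ (HInv.range hinv)
  have e1 := hu ⟨β', hβ'⟩ ⟨m, (h.inner χ' β').symm.trans hm, hpm⟩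
  have e2 := hu ⟨β₁', hβ₁'⟩ ⟨m₁, (h.inner χ' β₁').symm.trans hm₁, hpm₁⟩
  have e3 : β' = β₁' := congrArg Subtype.val (e1.trans e2.symm)
  rw [e3]

/-- **Injectivity.** -/
theorem Dat.unique_chi {χ χ₁ : A → ℂ} (hχ : IsIrrCharacter A χ) (hinv : HInv S f χ)
    (hχ₁ : IsIrrCharacter A χ₁) (hinv₁ : HInv S f χ₁)
    {β : B → ℂ} (hβ : IsIrrCharacter B β) (hker : ∀ b, f (g b) = 1 → β b = β 1)
    (hrel : Rel p g χ β) (hrel₁ : Rel p g χ₁ β) : χ = χ₁ := by
  classical
  have := Fintype.ofFinite Γ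
  have := Fintype.ofFinite f.range
  have := Fintype.ofFinite (f.range ⊓ Subgroup.centralizer (S : Set Γ) : Subgroup Γ)
  obtain ⟨χ', hχ', he⟩ := exists_defl f.rangeRestrict f.rangeRestrict_surjective hχ
    (fun a ha => hinv.ker (congrArg Subtype.val ha))
  have he' : χ = fun a => χ' (f.rangeRestrict a) := funext he
  subst he'
  obtain ⟨χ₁', hχ₁', he₁⟩ := exists_defl f.rangeRestrict f.rangeRestrict_surjective hχ₁
    (fun a ha => hinv₁.ker (congrArg Subtype.val ha))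
  have he₁' : χ₁ = fun a => χ₁' (f.rangeRestrict a) := funext he₁
  subst he₁'
  obtain ⟨β', hβ', hb⟩ := exists_defl h.pr h.pr_surj hβ
    (fun b hb => hker b (congrArg Subtype.val hb))
  have hb' : β = fun b => β' (h.pr b) := funext hb
  subst hb'
  have hcop : (Nat.card f.range).Coprime (Nat.card S) := by
    obtain ⟨k, hk⟩ := IsPGroup.iff_card.1 h.pgroup
    rw [hk]
    exact Nat.Coprime.pow_right k ((Nat.Prime.coprime_iff_not_dvd hp.out).2 h.ndvd).symm
  obtain ⟨h1, h2, h3, h4⟩ := Cfsg.Agent.S4444.result f.range S (by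
    rintro s hs _ ⟨a, rfl⟩
    obtain ⟨a', ha'⟩ := h.norm s hs a
    exact ⟨a', ha'⟩) hcop p hp.out h.pgroup
    (f.range ⊓ Subgroup.centralizer (S : Set Γ)) rfl inf_le_left
  obtain ⟨m, hm, hpm⟩ := hrel
  obtain ⟨m₁, hm₁, hpm₁⟩ := hrel₁
  have e := h3 ⟨χ', hχ'⟩ ⟨χ₁', hχ₁'⟩ (HInv.range hinv) (HInv.range hinv₁) ⟨β', hβ'⟩ m m₁
    ((h.inner χ' β').symm.trans hm) hpm ((h.inner χ₁' β').symm.trans hm₁) hpm₁
  have e3 : χ' = χ₁' := congrArg Subtype.val e
  rw [e3]

/-- **Surjectivity.** -/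
theorem Dat.exists_chi {β : B → ℂ} (hβ : IsIrrCharacter B β)
    (hker : ∀ b, f (g b) = 1 → β b = β 1) :
    ∃ χ : A → ℂ, IsIrrCharacter A χ ∧ HInv S f χ ∧ Rel p g χ β := by
  classical
  have := Fintype.ofFinite Γ
  have := Fintype.ofFinite f.range
  have := Fintype.ofFinite (f.range ⊓ Subgroup.centralizer (S : Set Γ) : Subgroup Γ)
  obtain ⟨β', hβ', hb⟩ := exists_defl h.pr h.pr_surj hβ
    (fun b hb => hker b (congrArg Subtype.val hb))
  have hb' : β = fun b => β' (h.pr b) := funext hb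
  subst hb'
  have hcop : (Nat.card f.range).Coprime (Nat.card S) := by
    obtain ⟨k, hk⟩ := IsPGroup.iff_card.1 h.pgroup
    rw [hk]
    exact Nat.Coprime.pow_right k ((Nat.Prime.coprime_iff_not_dvd hp.out).2 h.ndvd).symm
  obtain ⟨h1, h2, h3, h4⟩ := Cfsg.Agent.S4444.result f.range S (by
    rintro s hs _ ⟨a, rfl⟩
    obtain ⟨a', ha'⟩ := h.norm s hs a
    exact ⟨a', ha'⟩) hcop p hp.out h.pgroup
    (f.range ⊓ Subgroup.centralizer (S : Set Γ)) rfl inf_le_left
  obtain ⟨χ, hχ, m, hm, hpm⟩ := h4 ⟨β', hβ'⟩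
  refine ⟨fun a => (χ : _ → ℂ) (f.rangeRestrict a),
    isIrr_comp f.rangeRestrict f.rangeRestrict_surjective χ.2, ?_, m, ?_, hpm⟩
  · intro s hs a a' haa
    exact hχ s hs _ _ haa
  · rw [← hm]
    exact h.inner χ β'

end glaub

end Cfsg.Agent.H693.Defl
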