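import Cfsg.Agent.H693.FiveBase
import Cfsg.Agent.H113.PSL.Facts
import Cfsg.Agent.H489.OutClassical
import Cfsg.Agent.H545.PQ.RowTool
import Cfsg.Agent.Blocks.CyclicUpper

/-!
# Five character degrees: socle `PSL_3(q)`, `q ≠ 2, 4` (helper693, task 549 for S4898)
-/

set_option autoImplicit false

open Cfsg Cfsg.Agent.H693.FiveBase

namespace Cfsg.Agent.H693.FiveL3

universe u

theorem index_dvd {G : Type u} [Group G] [Finite G] (M : Subgroup G) [M.Normal] [IsSimpleGroup M]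
    (hc : Subgroup.centralizer (M : Set G) = ⊥)
    (F : Type) [Field F] [Fintype F] {p f : ℕ} (hp : p.Prime) (hf : 1 ≤ f) (hF : Fintype.card F = p ^ f)
    (e : M ≃* Matrix.ProjectiveSpecialLinearGroup (Fin 3) F) :
    M.index ∣ 2 * Nat.gcd 3 (Fintype.card F - 1) * f := by
  have : Fact p.Prime := ⟨hp⟩
  have h1 := H545.PQ.index_dvd_out M hc
  have hA := S0813.result p f hf hF 3 (by norm_num) (by norm_num)
  rw [H489.card_pgl F (by norm_num), ← mul_assoc] at hA
  have ho := H489.card_out_of (fun h => not_comm M hc h.1.1) e hA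
  rw [if_neg (by norm_num)] at ho
  refine h1.trans (dvd_of_eq ?_)
  rw [show (MulAut.conj : M →* MulAut M).range.index = Nat.card (Cfsg.Out M) from rfl, ho]
  ring

/-- arithmetic: the two degrees are different -/
theorem arith {q f x r t g : ℕ} (h2f : 2 * f ≤ q) (hq : 2 ≤ q) (h4 : q ≠ 4) (hf : 1 ≤ f)
    (hg : g = Nat.gcd 3 (q - 1)) (ht : t ∣ g) (hr : r * t = q ^ 2 + q + 1) (hx : x ∣ 2 * g * f)
    (h : r ∣ x) : False := by
  have hx1 : r ≤ 2 * g * f := by
    refine Nat.le_of_dvd ?_ (h.trans hx)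
    have : 0 < g := by rw [hg]; exact Nat.gcd_pos_of_pos_left _ (by norm_num)
    positivity
  have hg3 : g ∣ 3 := hg ▸ Nat.gcd_dvd_left _ _
  have hgq : g ∣ q - 1 := hg ▸ Nat.gcd_dvd_right _ _
  rcases (Nat.dvd_prime Nat.prime_three).1 hg3 with h1 | h1
  · rw [h1] at ht hx1
    have ht1 : t = 1 := Nat.dvd_one.1 ht
    subst ht1
    nlinarith
  · have ht3 : t ≤ 3 := Nat.le_of_dvd (by norm_num) (h1 ▸ ht)
    rw [h1] at hx1 hgq
    have h7 : 7 ≤ q := by
      by_contra hlt
      have : q = 2 ∨ q = 3 ∨ q = 5 ∨ q = 6 := by omega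
      rcases this with rfl | rfl | rfl | rfl <;> norm_num at hgq
    have h5 : q ^ 2 + q + 1 ≤ 18 * f := by
      rw [← hr]
      calc r * t ≤ (2 * 3 * f) * 3 := Nat.mul_le_mul hx1 ht3
        _ = 18 * f := by ring
    have h6 : q ≤ 8 := by nlinarith
    have : q = 7 ∨ q = 8 := by omega
    rcases this with rfl | rfl <;> omega

theorem five_L3 {G : Type u} [Group G] [Finite G] (M : Subgroup G) (hM : M.Normal)
    (hc : Subgroup.centralizer (M : Set G) = ⊥)
    (F : Type) [Field F] [Fintype F] (h2 : Fintype.card F ≠ 2) (h4 : Fintype.card F ≠ 4)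
    (e : Nonempty (M ≃* Matrix.ProjectiveSpecialLinearGroup (Fin 3) F)) :
    5 ≤ (Cfsg.charDegrees G).ncard := by
  classical
  obtain ⟨e⟩ := e
  obtain ⟨p, f, hp, hf, hF, h2f, hq⟩ := H489.exists_pf F
  have : Fact p.Prime := ⟨hp⟩
  have hchar : CharP F p := charP_of_card_eq_prime_pow hF
  have hsP : IsSimpleGroup (Matrix.ProjectiveSpecialLinearGroup (Fin 3) F) :=
    Cfsg.Agent.S0249.result 3 (by norm_num)
  have hsM : IsSimpleGroup M := e.isSimpleGroup
  have hlie : IsLieTypeChar p M :=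
    Or.inl ⟨F, inferInstance, inferInstance, hchar, 3, by norm_num, by norm_num, ⟨e⟩⟩
  have hidx := index_dvd M hc F hp hf hF e
  -- the two characters of `M`
  obtain ⟨φ5, h5⟩ := H113.PSL.Facts.t3 (F := F) (n := 3) (by norm_num)
  obtain ⟨φ3, t, ht, h3⟩ := H113.PSL.Three.exists_st (F := F) h2 h4
  set q := Fintype.card F with hqdef
  have hpq : p ∣ q := by rw [hF]; exact dvd_pow_self p (by omega)
  have h5' : charDegree φ5.1 = q * (q + 1) := by
    rw [h5]
    simp [Finset.sum_range_succ, add_comm]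
  have h3' : charDegree φ3.1 * t = q * (q ^ 2 + q + 1) := by
    apply Nat.eq_of_mul_eq_mul_right (show 0 < q - 1 by omega)
    rw [h3]
    obtain ⟨k, hk⟩ : ∃ k, q = k + 1 := ⟨q - 1, by omega⟩
    rw [hk]
    simp only [Nat.add_sub_cancel]
    have : (k + 1) ^ 3 - 1 = k * (k ^ 2 + 3 * k + 3) := by
      have : (k + 1) ^ 3 = k * (k ^ 2 + 3 * k + 3) + 1 := by ring
      omega
    rw [this]
    ring
  have ht3 : t ∣ 3 := ht.trans (Nat.gcd_dvd_left _ _)
  have htq : t ∣ q - 1 := ht.trans (Nat.gcd_dvd_right _ _)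
  have htcop : Nat.Coprime t q := by
    have h1 : Nat.Coprime (q - 1) q := by
      have : q = (q - 1) + 1 := by omega
      nth_rewrite 2 [this]
      simp
    exact Nat.Coprime.coprime_dvd_left htq h1
  obtain ⟨r, hr⟩ : t ∣ q ^ 2 + q + 1 := by
    have : t ∣ q * (q ^ 2 + q + 1) := ⟨_, by rw [← h3', mul_comm]⟩
    exact htcop.dvd_of_dvd_mul_left this
  have ht0 : 0 < t := Nat.pos_of_dvd_of_pos ht3 (by norm_num)
  have h3'' : charDegree φ3.1 = q * r := by
    apply Nat.eq_of_mul_eq_mul_right ht0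
    rw [h3', hr]
    ring
  have hrq : Nat.Coprime r q := by
    have h1 : Nat.Coprime (q ^ 2 + q + 1) q := by
      have : q ^ 2 + q + 1 = q * (q + 1) + 1 := by ring
      rw [this]
      simp
    exact Nat.Coprime.coprime_dvd_left ⟨t, by rw [hr, mul_comm]⟩ h1
  have hrq1 : Nat.Coprime r (q + 1) := by
    have h1 : Nat.Coprime (q ^ 2 + q + 1) (q + 1) := by
      have : q ^ 2 + q + 1 = (q + 1) * q + 1 := by ring
      rw [this]
      simp
    exact Nat.Coprime.coprime_dvd_left ⟨t, by rw [hr, mul_comm]⟩ h1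
  have hr1 : r ≠ 1 := by
    rintro rfl
    have : t ≤ 3 := Nat.le_of_dvd (by norm_num) ht3
    nlinarith
  have hpr : ¬ p ∣ r := fun h => hp.one_lt.ne' (Nat.dvd_one.1 ((Nat.coprime_iff_gcd_eq_one.1 hrq) ▸ Nat.dvd_gcd h hpq))
  have hpq1 : ¬ p ∣ q + 1 := by
    intro h
    have := (Nat.dvd_add_right hpq).1 h
    exact hp.one_lt.ne' (Nat.dvd_one.1 this)
  -- transport to `M`
  have tr : ∀ φ : IrrCharacter (Matrix.ProjectiveSpecialLinearGroup (Fin 3) F),
      ∃ θ : IrrCharacter M, charDegree (θ : M → ℂ) = charDegree φ.1 := by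
    intro φ
    refine ⟨⟨φ.1 ∘ e, Characters.Core.isIrr_comp e.toMonoidHom e.surjective φ.2⟩, ?_⟩
    apply Blocks.Basic.charDegree_of_eq
    change φ.1 (e 1) = _
    rw [map_one]
    exact Blocks.Basic.irr_one_eq_charDegree φ.2
  obtain ⟨θ5, e5⟩ := tr φ5
  obtain ⟨θ3, e3⟩ := tr φ3
  obtain ⟨x, hx, h5x⟩ := exists_above M θ5
  obtain ⟨y, hy, h3y⟩ := exists_above M θ3
  rw [e5, h5'] at h5x
  rw [e3, h3''] at h3y
  -- `p` divides `|M|`
  have hdiv : q * (q + 1) ∣ Nat.card M := by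
    rw [← h5', ← e5]
    exact Cfsg.Agent.Blocks.CyclicUpper.charDegree_dvd θ5.2
  have hpM : p ∣ Nat.card M := (hpq.trans (Dvd.intro _ rfl)).trans hdiv
  obtain ⟨m, hm, hm1, hpm⟩ := exists_coprime M hc hp hpM
  obtain ⟨k, hk, hs⟩ := exists_steinberg M hp hlie hpM
  have hp5 : p ∣ q * (q + 1) * x := (hpq.trans (Dvd.intro _ rfl)).trans (Dvd.intro _ rfl)
  have hp3 : p ∣ q * r * y := (hpq.trans (Dvd.intro _ rfl)).trans (Dvd.intro _ rfl)
  have hpk : p ∣ p ^ k := dvd_pow_self p (by omega)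
  have n1 : ∀ d, p ∣ d → d ≠ 1 := fun d hd h => hp.one_lt.ne' (Nat.dvd_one.1 (h ▸ hd))
  have nm : ∀ d, p ∣ d → d ≠ m := fun d hd h => hpm (h ▸ hd)
  have nk : ∀ d a, a ∣ d → a ≠ 1 → ¬ p ∣ a → d ≠ p ^ k := by
    intro d a had ha hpa h
    rw [h] at had
    obtain ⟨i, -, rfl⟩ := (Nat.dvd_prime_pow hp).1 had
    rcases Nat.eq_zero_or_pos i with h0 | h0
    · exact ha (by rw [h0, pow_zero])
    · exact hpa (dvd_pow_self p h0.ne')
  have n53 : q * (q + 1) * x ≠ q * r * y := by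
    intro h
    have h6 : r ∣ x := by
      have : r ∣ q * (q + 1) * x := ⟨q * y, by rw [h]; ring⟩
      exact (Nat.Coprime.mul_right hrq hrq1).dvd_of_dvd_mul_left this
    exact arith h2f hq h4 hf rfl ht (by rw [hr, mul_comm]) (hx.trans hidx) h6
  refine five_of (S := {1, m, p ^ k, q * (q + 1) * x, q * r * y}) ?_ ?_
  · intro d hd
    simp only [Finset.coe_insert, Finset.coe_singleton, Set.mem_insert_iff, Set.mem_singleton_iff] at hd
    rcases hd with rfl | rfl | rfl | rfl | rfl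
    · exact one_mem
    · exact hm
    · exact hs
    · exact h5x
    · exact h3y
  · rw [Finset.card_insert_of_notMem, Finset.card_insert_of_notMem, Finset.card_insert_of_notMem,
      Finset.card_insert_of_notMem, Finset.card_singleton]
    · simpa using n53
    · simp only [Finset.mem_insert, Finset.mem_singleton, not_or]
      refine ⟨fun h => nk _ (q + 1) ⟨q * x, by ring⟩ (by omega) hpq1 h.symm,
        fun h => nk _ r ⟨q * y, by ring⟩ hr1 hpr h.symm⟩
    · simp only [Finset.mem_insert, Finset.mem_singleton, not_or]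
      exact ⟨fun h => nm _ hpk h.symm, fun h => nm _ hp5 h.symm, fun h => nm _ hp3 h.symm⟩
    · simp only [Finset.mem_insert, Finset.mem_singleton, not_or]
      exact ⟨fun h => hm1 h.symm, fun h => n1 _ hpk h.symm, fun h => n1 _ hp5 h.symm, fun h => n1 _ hp3 h.symm⟩

end Cfsg.Agent.H693.FiveL3
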