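import Cfsg.Prelude
import Cfsg.Agent.H691.StExt
import Cfsg.Agent.H996.AllSplit
import Cfsg.Agent.S4456
import Cfsg.Agent.S0887
import Cfsg.Agent.Blocks.Over
import Cfsg.Agent.Blocks.Basic

/-!
# Five character degrees of an almost simple group (helper693)

General tools: `M` a normal simple nonabelian subgroup of `G` with trivial centralizer.

* `exists_above` : over an irreducible character of `M` of degree `e` there is one of `G` of degree `e x`, `x ∣ |G : M|`.
* `exists_coprime` : `p ∣ |M|`: `G` has a nonlinear irreducible character of degree prime to `p`.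
* `exists_steinberg` : `M` of Lie type of characteristic `p`: `G` has an irreducible character of degree `p ^ k`, `k ≥ 1`.
-/

set_option autoImplicit false

open Cfsg

namespace Cfsg.Agent.H693.FiveBase

universe u

variable {G : Type u} [Group G] [Finite G]

omit [Finite G] in
theorem one_mem : 1 ∈ charDegrees G := by
  refine ⟨⟨fun _ => 1, Characters.Core.isIrr_one⟩, ?_⟩
  apply Blocks.Basic.charDegree_of_eq
  simp

omit [Finite G] in
theorem not_comm (M : Subgroup G) (hc : Subgroup.centralizer (M : Set G) = ⊥) [IsSimpleGroup M] :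
    ¬ ∀ x y : M, x * y = y * x := by
  intro h
  have h1 : M ≤ Subgroup.centralizer (M : Set G) := by
    intro x hx y hy
    exact congrArg Subtype.val (h ⟨y, hy⟩ ⟨x, hx⟩)
  rw [hc, le_bot_iff] at h1
  have : Nontrivial M := inferInstance
  exact (Subgroup.nontrivial_iff_ne_bot M).1 this h1

theorem exists_above (M : Subgroup G) [M.Normal] (θ : IrrCharacter M) :
    ∃ x, x ∣ M.index ∧ charDegree (θ : M → ℂ) * x ∈ charDegrees G := by
  classical
  have : Fintype G := Fintype.ofFinite G
  have : Fintype M := Fintype.ofFinite M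
  obtain ⟨χ, hχ⟩ := Blocks.Over.exists_over M θ
  obtain ⟨h1, h2⟩ := Cfsg.Agent.S0887.result M χ χ.2 θ θ.2 hχ _ _
    (Blocks.Basic.irr_one_eq_charDegree χ.2) (Blocks.Basic.irr_one_eq_charDegree θ.2)
  exact ⟨_, h2, χ, (Nat.mul_div_cancel' h1).symm⟩

/-- a normal simple nonabelian subgroup with trivial centralizer of order divisible by `p`: no normal `p`-complement -/
theorem no_compl (M : Subgroup G) [M.Normal] (hc : Subgroup.centralizer (M : Set G) = ⊥) [IsSimpleGroup M]
    (hna : ¬ ∀ x y : M, x * y = y * x) {p : ℕ} (hp : p.Prime) (hpM : p ∣ Nat.card M)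
    (N : Subgroup G) (hN : N.Normal) (hNp : (Nat.card N).Coprime p) {k : ℕ} (hk : N.index = p ^ k) : False := by
  have : Fact p.Prime := ⟨hp⟩
  have hnor : (N.subgroupOf M).Normal := inferInstance
  rcases hnor.eq_bot_or_eq_top with h | h
  · have h1 : Disjoint M N := by
      rw [disjoint_iff, inf_comm, ← Subgroup.subgroupOf_map_subtype, h, Subgroup.map_bot]
    have h2 : N ≤ Subgroup.centralizer (M : Set G) := by
      intro n hn m hm
      have := Subgroup.commute_of_normal_of_disjoint M N inferInstance hN h1 m n hm hn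
      exact this
    rw [hc, le_bot_iff] at h2
    subst h2
    rw [Subgroup.index_bot] at hk
    have hG : IsPGroup p G := IsPGroup.of_card hk
    have hM : IsPGroup p M := hG.to_subgroup M
    have hnil : Group.IsNilpotent M := hM.isNilpotent
    have hZ : Subgroup.center M ≠ ⊥ := by
      have : Nontrivial M := inferInstance
      have := hM.bot_lt_center
      exact this.ne'
    rcases (inferInstance : (Subgroup.center M).Normal).eq_bot_or_eq_top with h3 | h3
    · exact hZ h3
    · apply hna
      intro x y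
      have : x ∈ Subgroup.center M := by rw [h3]; exact Subgroup.mem_top x
      exact ((Subgroup.mem_center_iff.1 this) y).symm
  · rw [Subgroup.subgroupOf_eq_top] at h
    have h1 : p ∣ Nat.card N := hpM.trans (Subgroup.card_dvd_of_le h)
    exact (Nat.Prime.coprime_iff_not_dvd hp).1 hNp.symm h1

theorem exists_coprime (M : Subgroup G) [M.Normal] (hc : Subgroup.centralizer (M : Set G) = ⊥) [IsSimpleGroup M]
    {p : ℕ} (hp : p.Prime) (hpM : p ∣ Nat.card M) :
    ∃ m ∈ charDegrees G, m ≠ 1 ∧ ¬ p ∣ m := by
  by_contra hcon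
  push Not at hcon
  obtain ⟨N, hN, hNp, k, hk⟩ := Cfsg.Agent.S4456.result (G := G) p hp
    (fun χ h1 => hcon _ ⟨χ, rfl⟩ h1)
  exact no_compl M hc (not_comm M hc) hp hpM N hN hNp hk

theorem exists_steinberg (M : Subgroup G) [M.Normal] [IsSimpleGroup M] {p : ℕ} (hp : p.Prime)
    (h : IsLieTypeChar p M) (hpM : p ∣ Nat.card M) : ∃ k, 1 ≤ k ∧ p ^ k ∈ charDegrees G := by
  have : Fact p.Prime := ⟨hp⟩
  have hs := H996.AllSplit.hasSplit_of_lie hp h
  obtain ⟨χ, h1, h2, h3⟩ := H691.StExt.exists_ext M hs
  obtain ⟨Q⟩ : Nonempty (Sylow p M) := inferInstance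
  refine ⟨(Nat.card M).factorization p, ?_, ⟨χ, h1⟩, ?_⟩
  · exact (hp.dvd_iff_one_le_factorization Nat.card_pos.ne').1 hpM
  · apply Blocks.Basic.charDegree_of_eq
    change χ 1 = _
    rw [h3 Q, Sylow.card_eq_multiplicity]

theorem five_of (S : Finset ℕ) (hS : (S : Set ℕ) ⊆ charDegrees G) {n : ℕ} (h : S.card = n) :
    n ≤ (charDegrees G).ncard := by
  have hfin : (charDegrees G).Finite := by
    have : Finite (IrrCharacter G) := Characters.Core.finite_irr
    exact Set.finite_range (fun χ : IrrCharacter G => charDegree (χ : G → ℂ))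
  rw [← h, ← Set.ncard_coe_finset]
  exact Set.ncard_le_ncard hS hfin

end Cfsg.Agent.H693.FiveBase
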