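import Mathlib

/-!
# The subgroup generated by the `p`-elements

`gen p G` is the subgroup generated by the elements whose order is a power of `p`.
-/

set_option autoImplicit false

namespace Cfsg.Agent.H693.GenBasic

open scoped commutatorElement

variable {G H : Type*} [Group G] [Group H]

/-- The subgroup generated by the elements of `p`-power order. -/
def gen (p : ℕ) (G : Type*) [Group G] : Subgroup G :=
  Subgroup.closure {g : G | ∃ k : ℕ, orderOf g = p ^ k}

theorem gen_def (p : ℕ) (G : Type*) [Group G] :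
    gen p G = Subgroup.closure {g : G | ∃ k : ℕ, orderOf g = p ^ k} := rfl

theorem mem_gen_of_pow {p : ℕ} (hp : p.Prime) {g : G} {k : ℕ} (h : g ^ p ^ k = 1) :
    g ∈ gen p G := by
  apply Subgroup.subset_closure
  obtain ⟨j, -, hj⟩ := (Nat.dvd_prime_pow hp).1 (orderOf_dvd_of_pow_eq_one h)
  exact ⟨j, hj⟩

theorem gen_map [Finite G] {p : ℕ} (hp : p.Prime) {f : G →* H} (hf : Function.Surjective f) :
    (gen p G).map f = gen p H := by
  apply le_antisymm
  · rw [gen_def, MonoidHom.map_closure, Subgroup.closure_le]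
    rintro _ ⟨g, ⟨k, hk⟩, rfl⟩
    apply mem_gen_of_pow hp (k := k)
    rw [← map_pow, ← hk, pow_orderOf_eq_one, map_one]
  · rw [gen_def p H, Subgroup.closure_le]
    rintro h ⟨k, hk⟩
    obtain ⟨x, rfl⟩ := hf h
    obtain ⟨a, m, hm, hx⟩ := Nat.exists_eq_pow_mul_and_not_dvd (orderOf_pos x).ne' p hp.ne_one
    have h1 : f x ∈ Subgroup.zpowers (f x ^ m) := by
      rw [mem_zpowers_pow_iff, hk]
      exact (Nat.Coprime.pow_left k ((Nat.Prime.coprime_iff_not_dvd hp).2 hm)).symm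
    have h2 : f x ^ m ∈ (gen p G).map f := by
      rw [← map_pow]
      refine ⟨x ^ m, mem_gen_of_pow hp (k := a) ?_, rfl⟩
      rw [← pow_mul, mul_comm, ← hx, pow_orderOf_eq_one]
    exact (Subgroup.zpowers_le.2 h2) h1

theorem gen_normal [Finite G] {p : ℕ} (hp : p.Prime) : (gen p G).Normal := by
  refine ⟨fun n hn g => ?_⟩
  have h1 := gen_map hp (f := (MulAut.conj g : G ≃* G).toMonoidHom) (MulAut.conj g).surjective
  rw [← h1]
  exact ⟨n, hn, rfl⟩

theorem le_gen {p : ℕ} (hp : p.Prime) {P : Subgroup G} (hP : IsPGroup p P) : P ≤ gen p G := by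
  intro x hx
  obtain ⟨k, hk⟩ := hP ⟨x, hx⟩
  exact mem_gen_of_pow hp (k := k) (congrArg Subtype.val hk)

theorem isSolvable_gen [Finite G] {p : ℕ} (hp : p.Prime) {f : G →* H} (hf : Function.Surjective f)
    (hs : Group.IsSolvable (gen p G)) : Group.IsSolvable (gen p H) := by
  rw [← gen_map hp hf]
  exact Group.isSolvable_of_surjective (f := f.subgroupMap (gen p G)) (f.subgroupMap_surjective _)

/-- `gen p (gen p G) = ⊤`. -/
theorem gen_gen {p : ℕ} : gen p (gen p G) = ⊤ := by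
  rw [eq_top_iff]
  have h : (gen p G).map (MonoidHom.id G) ≤ (gen p (gen p G)).map (gen p G).subtype := by
    rw [Subgroup.map_id]
    conv_lhs => rw [gen_def]
    rw [Subgroup.closure_le]
    rintro g ⟨k, hk⟩
    have hg : g ∈ gen p G := Subgroup.subset_closure ⟨k, hk⟩
    refine ⟨⟨g, hg⟩, Subgroup.subset_closure ⟨k, ?_⟩, rfl⟩
    rw [← hk, ← Subgroup.orderOf_coe]
  rw [Subgroup.map_id] at h
  intro x _
  obtain ⟨y, hy, hxy⟩ := h x.2
  have : y = x := Subtype.ext hxy
  rwa [← this]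

/-- Modulo its derived group, every element of `gen p G` is a `p`-element. -/
theorem exists_pow_mem_commutator [Finite G] {p : ℕ} (hp : p.Prime) {x : G} (hx : x ∈ gen p G) :
    ∃ k : ℕ, x ^ p ^ k ∈ ⁅gen p G, gen p G⁆ := by
  have hN : (gen p G).Normal := gen_normal hp
  have hN' : (⁅gen p G, gen p G⁆).Normal := Subgroup.commutator_normal _ _
  have hcomm : ∀ x ∈ gen p G, ∀ y ∈ gen p G,
      (x : G ⧸ ⁅gen p G, gen p G⁆) * (y : G ⧸ ⁅gen p G, gen p G⁆) =
      (y : G ⧸ ⁅gen p G, gen p G⁆) * (x : G ⧸ ⁅gen p G, gen p G⁆) := by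
    intro x hx y hy
    rw [← QuotientGroup.mk_mul, ← QuotientGroup.mk_mul, QuotientGroup.eq]
    have h1 : (x * y)⁻¹ * (y * x) = ⁅y⁻¹, x⁻¹⁆ := by
      rw [commutatorElement_def]; group
    rw [h1]
    exact Subgroup.commutator_mem_commutator ((gen p G).inv_mem hy) ((gen p G).inv_mem hx)
  have key : ∀ x ∈ gen p G, ∃ k : ℕ, (x : G ⧸ ⁅gen p G, gen p G⁆) ^ p ^ k = 1 := by
    intro x hx
    rw [gen_def] at hx
    induction hx using Subgroup.closure_induction with
    | mem x hx =>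
      obtain ⟨k, hk⟩ := hx
      refine ⟨k, ?_⟩
      rw [← QuotientGroup.mk_pow, ← hk, pow_orderOf_eq_one, QuotientGroup.mk_one]
    | one => exact ⟨0, by simp⟩
    | mul x y hx hy hx' hy' =>
      obtain ⟨a, ha⟩ := hx'
      obtain ⟨b, hb⟩ := hy'
      refine ⟨a + b, ?_⟩
      have hc : Commute (x : G ⧸ ⁅gen p G, gen p G⁆) (y : G ⧸ ⁅gen p G, gen p G⁆) :=
        hcomm x hx y hy
      rw [QuotientGroup.mk_mul, hc.mul_pow, pow_add, pow_mul, ha, one_pow, one_mul, mul_comm,
        pow_mul, hb, one_pow]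
    | inv x hx hx' =>
      obtain ⟨a, ha⟩ := hx'
      refine ⟨a, ?_⟩
      rw [QuotientGroup.mk_inv, inv_pow, ha, inv_one]
  obtain ⟨k, hk⟩ := key x hx
  refine ⟨k, ?_⟩
  rw [← QuotientGroup.mk_pow] at hk
  exact (QuotientGroup.eq_one_iff _).1 hk

end Cfsg.Agent.H693.GenBasic
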