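import Mathlib

/-!
# Cosets fixed by a Sylow subgroup

`P` a Sylow `p`-subgroup of `G`, `P ≤ I ≤ G`, `K` normal in `G`, `N = N_G(P)`.

* `exists_normalizing` : a coset `kI`, `k ∈ K`, fixed by `P` is a coset `nI` with `n ∈ K ∩ N`.
* `relIndex_modEq` : `|K : K ∩ I| ≡ |K ∩ N : K ∩ N ∩ I|` modulo `p`.
-/

set_option autoImplicit false

namespace Cfsg.Agent.H693.SylOrb

open scoped Pointwise

variable {G : Type*} [Group G]

theorem exists_normalizing [Finite G] {p : ℕ} [hp : Fact p.Prime] (P : Sylow p G)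
    (K I : Subgroup G) [hK : K.Normal] (hPI : (P : Subgroup G) ≤ I) {k : G} (hk : k ∈ K)
    (hfix : ∀ u ∈ (P : Subgroup G), k⁻¹ * u * k ∈ I) :
    ∃ a ∈ I, k * a ∈ K ⊓ Subgroup.normalizer ((P : Subgroup G) : Set G) := by
  have h1 : (P : Subgroup G) ≤ I ⊓ (K ⊔ (P : Subgroup G)) := le_inf hPI le_sup_right
  have h2 : ((k⁻¹ • P : Sylow p G) : Subgroup G) ≤ I ⊓ (K ⊔ (P : Subgroup G)) := by
    intro x hx
    rw [Sylow.coe_subgroup_smul] at hx
    obtain ⟨u, hu, hx'⟩ := hx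
    have h3 : x = k⁻¹ * u * k := by
      rw [← hx']
      show (MulAut.conj k⁻¹) u = _
      rw [MulAut.conj_apply, inv_inv]
    rw [h3]
    refine ⟨hfix u hu, ?_⟩
    exact mul_mem (mul_mem ((le_sup_left : K ≤ _) (K.inv_mem hk))
      ((le_sup_right : (P : Subgroup G) ≤ _) hu)) ((le_sup_left : K ≤ _) hk)
  obtain ⟨h, hh⟩ := MulAction.exists_smul_eq (↥(I ⊓ (K ⊔ (P : Subgroup G)))) (P.subtype h1)
    ((k⁻¹ • P).subtype h2)
  simp_rw [Sylow.smul_subtype, Subgroup.smul_def] at hh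
  have h3 : (h : G) • P = k⁻¹ • P := Sylow.subtype_injective hh
  have h4 : (k * (h : G)) • P = P := by
    rw [mul_smul, h3, smul_inv_smul]
  have h5 : k * (h : G) ∈ Subgroup.normalizer ((P : Subgroup G) : Set G) :=
    Sylow.smul_eq_iff_mem_normalizer.mp h4
  obtain ⟨a, ha, b, hb, hab⟩ := Subgroup.mem_sup_of_normal_left.1 h.2.2
  have haI : a ∈ I := by
    have : a = (h : G) * b⁻¹ := by rw [← hab]; group
    rw [this]
    exact I.mul_mem h.2.1 (I.inv_mem (hPI hb))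
  refine ⟨a, haI, K.mul_mem hk ha, ?_⟩
  have h6 : k * a = k * (h : G) * b⁻¹ := by rw [← hab]; group
  rw [h6]
  exact Subgroup.mul_mem _ h5 (Subgroup.inv_mem _ (Subgroup.le_normalizer hb))

theorem card_orbit (I H : Subgroup G) :
    Nat.card (MulAction.orbit H ((1 : G) : G ⧸ I)) = I.relIndex H := by
  have h1 : MulAction.stabilizer H ((1 : G) : G ⧸ I) = I.subgroupOf H := by
    ext h
    rw [MulAction.mem_stabilizer_iff, Subgroup.mem_subgroupOf]
    show ((((h : G) * 1 : G)) : G ⧸ I) = ((1 : G) : G ⧸ I) ↔ _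
    rw [eq_comm, QuotientGroup.eq, mul_one, inv_one, one_mul]
  rw [Subgroup.relIndex, ← h1, MulAction.index_stabilizer]
  rfl

theorem relIndex_modEq [Finite G] {p : ℕ} [hp : Fact p.Prime] (P : Sylow p G)
    (K I : Subgroup G) [hK : K.Normal] (hPI : (P : Subgroup G) ≤ I) :
    I.relIndex K ≡ I.relIndex (K ⊓ Subgroup.normalizer ((P : Subgroup G) : Set G)) [MOD p] := by
  rw [← card_orbit, ← card_orbit]
  let S : SubMulAction (P : Subgroup G) (G ⧸ I) :=
    { carrier := MulAction.orbit K ((1 : G) : G ⧸ I)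
      smul_mem' := by
        rintro u _ ⟨k, rfl⟩
        refine ⟨⟨(u : G) * k * (u : G)⁻¹, hK.conj_mem k k.2 u⟩, ?_⟩
        show ((((u : G) * k * (u : G)⁻¹ * 1 : G)) : G ⧸ I) = (((u : G) * ((k : G) * 1) : G) : G ⧸ I)
        rw [QuotientGroup.eq]
        have : ((u : G) * k * (u : G)⁻¹ * 1)⁻¹ * ((u : G) * ((k : G) * 1)) = u := by group
        rw [this]
        exact hPI u.2 }
  have hmem : ∀ x : G ⧸ I, x ∈ S ↔ x ∈ MulAction.orbit K ((1 : G) : G ⧸ I) := fun x => Iff.rfl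
  have h := IsPGroup.card_modEq_card_fixedPoints P.isPGroup' S
  have e1 : Nat.card S = Nat.card (MulAction.orbit K ((1 : G) : G ⧸ I)) := rfl
  have e2 : Nat.card (MulAction.fixedPoints (P : Subgroup G) S) =
      Nat.card (MulAction.orbit ↥(K ⊓ Subgroup.normalizer ((P : Subgroup G) : Set G))
        ((1 : G) : G ⧸ I)) := by
    refine Nat.card_congr
      ⟨fun x => ⟨x.1.1, ?_⟩, fun x => ⟨⟨x.1, ?_⟩, ?_⟩, fun x => rfl, fun x => rfl⟩
    · obtain ⟨⟨x, ⟨k, hk⟩⟩, hx⟩ := x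
      have hk' : (((k : G) * 1 : G) : G ⧸ I) = x := hk
      subst hk'
      have h3 : ∀ u ∈ (P : Subgroup G), (k : G)⁻¹ * u * k ∈ I := by
        intro u hu
        have h4 : ((u * ((k : G) * 1) : G) : G ⧸ I) = (((k : G) * 1 : G) : G ⧸ I) :=
          congrArg Subtype.val (hx ⟨u, hu⟩)
        rw [eq_comm, QuotientGroup.eq] at h4
        have h5 : ((k : G) * 1)⁻¹ * (u * ((k : G) * 1)) = (k : G)⁻¹ * u * k := by group
        rwa [h5] at h4
      obtain ⟨a, ha, hka⟩ := exists_normalizing P K I hPI k.2 h3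
      refine ⟨⟨(k : G) * a, hka⟩, ?_⟩
      show ((((k : G) * a) * 1 : G) : G ⧸ I) = (((k : G) * 1 : G) : G ⧸ I)
      rw [eq_comm, QuotientGroup.eq]
      have h5 : ((k : G) * 1)⁻¹ * ((k : G) * a * 1) = a := by group
      rwa [h5]
    · obtain ⟨_, ⟨n, rfl⟩⟩ := x
      exact ⟨⟨(n : G), n.2.1⟩, rfl⟩
    · obtain ⟨_, ⟨n, rfl⟩⟩ := x
      intro u
      apply Subtype.ext
      show (((u : G) * ((n : G) * 1) : G) : G ⧸ I) = (((n : G) * 1 : G) : G ⧸ I)
      rw [eq_comm, QuotientGroup.eq]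
      have h5 : ((n : G) * 1)⁻¹ * ((u : G) * ((n : G) * 1)) = (n : G)⁻¹ * u * n := by group
      rw [h5]
      have h6 := (Subgroup.mem_normalizer_iff.1 (Subgroup.inv_mem _ n.2.2) (u : G)).1 u.2
      rw [inv_inv] at h6
      exact hPI h6
  rw [e1, e2] at h
  exact h

end Cfsg.Agent.H693.SylOrb
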